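import Cfsg.Agent.H928.Ore.Block
import Cfsg.Agent.H335.Sr.Chev
import Cfsg.Agent.H224.Ore.Row

/-!
# `E₆` over the field with three elements: the Levi subgroup of the nodes `{2,4}, {1}, {6}` (S2443, S4171)

* `Phi` : the homomorphism `SL₃(K) × SL₂(K) × SL₂(K) →* E₆(K)`;
* `exists_up`, `exists_lo` : `U_J`, `U_J⁻` are contained in the images of the triangular groups.
-/

set_option autoImplicit false
set_option linter.unusedSectionVars false

namespace Cfsg.Agent.H150.E6T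

open CoxeterSystem Cfsg.Agent.ChevalleyStructure.CoxeterGeom Cfsg.Agent.Tits.Roots Cfsg.Agent.Tits.Core
  Cfsg.Agent.Nodes.Reps Cfsg.Agent.Nodes.BNOf Cfsg.Agent.Nodes.RGDLib Cfsg.Agent.Nodes.Bruhat
  Cfsg.Agent.Nodes.OppDec Cfsg.Agent.Nodes.LeviDec Cfsg.Agent.Nodes.KindChev Cfsg.Agent.Nodes.ChevCls
  Cfsg.Agent.Nodes.StabComb
  Cfsg.Agent.OddHalf.NI.ModelChev
  Cfsg.Agent.H162.GaussDec Cfsg.Agent.H162.GaussLevi Cfsg.Agent.H162.GaussSL Cfsg.Agent.H162.GaussExcMain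
  Cfsg.Agent.H162.GaussMain Cfsg.Agent.H162.GaussReg Cfsg.Agent.H162.GaussPQ
open Cfsg.Lie Cfsg.Agent.ChevalleyStructure Cfsg.Agent.ChevalleyStructure.Elts
  Cfsg.Agent.ChevalleyStructure.RootVec Cfsg.Agent.ChevalleyStructure.NPerm
  Cfsg.Agent.ChevalleyStructure.CoxeterGeomTypes Cfsg.Agent.Nodes.RGDChev Cfsg.Agent.KFacts.RgdChevCoord
open Cfsg.Agent.FixBN.FieldRGD (uu vv dd ww)
open Cfsg.Agent.TitsThree.KExcRT Cfsg.Agent.AGraded
open scoped MatrixGroups

universe u v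

/-! ### Generalities -/

section

variable {K : Type u} [Field K]

theorem tv01 (c : K) : Matrix.SpecialLinearGroup.transvection (show (0 : Fin 2) ≠ 1 by decide) c = uu c := by
  apply Subtype.ext
  ext i j
  fin_cases i <;> fin_cases j <;> simp [Matrix.SpecialLinearGroup.transvection, Matrix.transvection, uu]

theorem tv10 (c : K) : Matrix.SpecialLinearGroup.transvection (show (1 : Fin 2) ≠ 0 by decide) c = vv c := by
  apply Subtype.ext
  ext i j
  fin_cases i <;> fin_cases j <;> simp [Matrix.SpecialLinearGroup.transvection, Matrix.transvection, vv]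

theorem commute_hom {n : ℕ} {Y : Type*} [Group Y] (f : Matrix.SpecialLinearGroup (Fin n) K →* Y) (y : Y)
    (h : ∀ a b (hab : a ≠ b) c, Commute (f (Matrix.SpecialLinearGroup.transvection hab c)) y) (A) :
    Commute (f A) y := by
  have h1 : (⊤ : Subgroup (Matrix.SpecialLinearGroup (Fin n) K)) ≤ (Subgroup.centralizer {y}).comap f := by
    rw [← Cfsg.Agent.LieClassical.SLGen.closure_transvections, Subgroup.closure_le]
    rintro _ ⟨a, b, hab, c, rfl⟩
    change f _ ∈ Subgroup.centralizer {y}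
    rw [Subgroup.mem_centralizer_singleton_iff]
    exact (h a b hab c).symm.eq.symm ▸ rfl
  have h2 := h1 (Subgroup.mem_top A)
  rw [Subgroup.mem_comap, Subgroup.mem_centralizer_singleton_iff] at h2
  exact h2

theorem commute_two {Y : Type*} [Group Y] (f : SL(2, K) →* Y) (y : Y) (h0 : ∀ c, Commute (f (uu c)) y)
    (h1 : ∀ c, Commute (f (vv c)) y) (A) : Commute (f A) y := by
  refine commute_hom f y (fun a b hab c => ?_) A
  fin_cases a <;> fin_cases b
  · exact absurd rfl hab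
  · exact (congrArg f (tv01 c)) ▸ h0 c
  · exact (congrArg f (tv10 c)) ▸ h1 c
  · exact absurd rfl hab

end

section

variable {D : ChevalleyDatum} {l : ℕ} {M : CoxeterMatrix (Fin l)} (hp : IsType D l M) {K : Type u} [Field K]

theorem xc_commute {r s : ℕ} (hr : r < D.nroots) (hs : s < D.nroots) (h1 : s ≠ r) (h2 : s ≠ D.neg r)
    (h3 : D.commTerms r s = []) (a b : K) : Commute (xc hp (vec D l r) a) (xc hp (vec D l s) b) := by
  apply Subtype.ext
  rw [Subgroup.coe_mul, Subgroup.coe_mul, coe_xc hp hr, coe_xc hp hs]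
  exact Cfsg.Agent.TitsThree.KExcBase.comm_nil hp.inList hr hs h1 h2 h3 a b

end

/-! ### Tables -/

/-- the nodes of the Levi subgroup -/
def J6 : List (Fin 6) := [0, 1, 3, 5]

theorem simple6 : chevE6.simple 0 = 56 ∧ chevE6.simple 5 = 36 ∧ chevE6.neg 56 = 15 ∧ chevE6.neg 36 = 35 ∧
    r6 0 1 = chevE6.simple 3 ∧ r6 1 2 = chevE6.simple 1 := by decide +kernel

/-- the root elements commute -/
def Cm (D : ChevalleyDatum) (r s : ℕ) : Prop := r < D.nroots ∧ s < D.nroots ∧ s ≠ r ∧ s ≠ D.neg r ∧ D.commTerms r s = []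

instance (D : ChevalleyDatum) (r s : ℕ) : Decidable (Cm D r s) := by unfold Cm; infer_instance

theorem cm_block : ∀ a b : Fin 3, a ≠ b → Cm chevE6 (r6 a b) 56 ∧ Cm chevE6 (r6 a b) 15 ∧ Cm chevE6 (r6 a b) 36 ∧
    Cm chevE6 (r6 a b) 35 := by decide +kernel

theorem cm_two : Cm chevE6 56 36 ∧ Cm chevE6 56 35 ∧ Cm chevE6 15 36 ∧ Cm chevE6 15 35 := by decide +kernel

theorem r6_lt : ∀ a b : Fin 3, a ≠ b → r6 a b < chevE6.nroots := by decide +kernel

theorem r6_neg : ∀ a b : Fin 3, a ≠ b → r6 b a = chevE6.neg (r6 a b) := by decide +kernel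

theorem r6_J : ∀ a b : Fin 3, a ≠ b → ∀ k : Fin 6, k ∉ J6 → vec chevE6 6 (r6 a b) k = 0 := by decide +kernel

theorem sub6 : ∀ q < chevE6.nroots, (∀ k : Fin 6, k ∉ J6 → vec chevE6 6 q k = 0) →
    (∃ a b : Fin 3, a ≠ b ∧ r6 a b = q ∧ (a < b → ∃ k, 0 < vec chevE6 6 q k) ∧ (b < a → ∃ k, vec chevE6 6 q k < 0)) ∨
      q = 56 ∨ q = 15 ∨ q = 36 ∨ q = 35 := by
  intro q hq
  revert q
  refine @of_decide_eq_true _ ?_ ?_
  · refine @Nat.decidableBallLT _ _ fun q _ => ?_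
    refine @instDecidableForall _ _ inferInstance ?_
    refine @instDecidableOr _ _ ?_ inferInstance
    refine @Fintype.decidableExistsFintype _ _ (fun a => ?_) _
    refine @Fintype.decidableExistsFintype _ _ (fun b => ?_) _
    infer_instance
  · decide +kernel

/-! ### The homomorphism -/

section Hom

variable (K : Type u) [Field K]

theorem hp6 : IsType chevE6 6 CoxeterMatrix.E₆ := Cfsg.Agent.Nodes.KindE.isType6

/-- the block of the nodes `4, 2` -/
noncomputable def phi : Matrix.SpecialLinearGroup (Fin 3) K →* ↥(chevE6.group K) :=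
  (exists_hom_D hp6 (K := K) (ε := 1) (by norm_num) rt6.1 rt6.2.1 rt6.2.2.1 rt6.2.2.2).choose

theorem phi_tv' (a b : Fin 3) (hab : a ≠ b) (c : K) :
    phi K (Matrix.SpecialLinearGroup.transvection hab c) = xc hp6 (vec chevE6 6 (r6 a b)) (((1 : ℤ) : K) * c) :=
  (exists_hom_D hp6 (K := K) (ε := 1) (by norm_num) rt6.1 rt6.2.1 rt6.2.2.1 rt6.2.2.2).choose_spec a b hab c

theorem phi_tv (a b : Fin 3) (hab : a ≠ b) (c : K) :
    phi K (Matrix.SpecialLinearGroup.transvection hab c) = xc hp6 (vec chevE6 6 (r6 a b)) c := by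
  rw [phi_tv', Int.cast_one, one_mul]

/-- the block of a node -/
noncomputable abbrev f (i : Fin 6) : SL(2, K) →* ↥(chevE6.group K) := sl hp6 (K := K) i

theorem vec56 : (sr 0 : Fin 6 → ℤ) = vec chevE6 6 56 := by
  rw [← vec_simple hp6 0]; exact congrArg _ simple6.1

theorem vec36 : (sr 5 : Fin 6 → ℤ) = vec chevE6 6 36 := by
  rw [← vec_simple hp6 5]; exact congrArg _ simple6.2.1

theorem vec15 : (-sr 0 : Fin 6 → ℤ) = vec chevE6 6 15 := by
  rw [vec56, ← vec_neg hp6 (by decide +kernel), simple6.2.2.1]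

theorem vec35 : (-sr 5 : Fin 6 → ℤ) = vec chevE6 6 35 := by
  rw [vec36, ← vec_neg hp6 (by decide +kernel), simple6.2.2.2.1]

theorem f0_uu (c : K) : f K 0 (uu c) = xc hp6 (vec chevE6 6 56) c := by rw [← vec56]; exact sl_uu hp6 0 c
theorem f0_vv (c : K) : f K 0 (vv c) = xc hp6 (vec chevE6 6 15) c := by rw [← vec15]; exact sl_vv hp6 0 c
theorem f5_uu (c : K) : f K 5 (uu c) = xc hp6 (vec chevE6 6 36) c := by rw [← vec36]; exact sl_uu hp6 5 c
theorem f5_vv (c : K) : f K 5 (vv c) = xc hp6 (vec chevE6 6 35) c := by rw [← vec35]; exact sl_vv hp6 5 c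

variable {K}

theorem Cm.commute {r s : ℕ} (h : Cm chevE6 r s) (a b : K) :
    Commute (xc hp6 (vec chevE6 6 r) a) (xc hp6 (vec chevE6 6 s) b) :=
  xc_commute hp6 h.1 h.2.1 h.2.2.1 h.2.2.2.1 h.2.2.2.2 a b

variable (K)

theorem comm0 (A : Matrix.SpecialLinearGroup (Fin 3) K) (B : SL(2, K)) : Commute (phi K A) (f K 0 B) := by
  refine commute_hom _ _ (fun a b hab c => (commute_two _ _ (fun d => ?_) (fun d => ?_) B).symm) A
  · rw [f0_uu, phi_tv]; exact ((cm_block a b hab).1.commute c d).symm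
  · rw [f0_vv, phi_tv]; exact ((cm_block a b hab).2.1.commute c d).symm

theorem comm5 (A : Matrix.SpecialLinearGroup (Fin 3) K) (B : SL(2, K)) : Commute (phi K A) (f K 5 B) := by
  refine commute_hom _ _ (fun a b hab c => (commute_two _ _ (fun d => ?_) (fun d => ?_) B).symm) A
  · rw [f5_uu, phi_tv]; exact ((cm_block a b hab).2.2.1.commute c d).symm
  · rw [f5_vv, phi_tv]; exact ((cm_block a b hab).2.2.2.commute c d).symm

theorem comm05 (A B : SL(2, K)) : Commute (f K 0 A) (f K 5 B) := by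
  refine commute_two _ _ (fun c => (commute_two _ _ (fun d => ?_) (fun d => ?_) B).symm)
    (fun c => (commute_two _ _ (fun d => ?_) (fun d => ?_) B).symm) A
  · rw [f0_uu, f5_uu]; exact (cm_two.1.commute c d).symm
  · rw [f0_uu, f5_vv]; exact (cm_two.2.1.commute c d).symm
  · rw [f0_vv, f5_uu]; exact (cm_two.2.2.1.commute c d).symm
  · rw [f0_vv, f5_vv]; exact (cm_two.2.2.2.commute c d).symm

/-- the homomorphism onto the Levi subgroup -/
noncomputable def Phi : (Matrix.SpecialLinearGroup (Fin 3) K × SL(2, K)) × SL(2, K) →* ↥(chevE6.group K) :=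
  ((phi K).noncommCoprod (f K 0) (comm0 K)).noncommCoprod (f K 5) fun p B => by
    change Commute (phi K p.1 * f K 0 p.2) (f K 5 B)
    exact (comm5 K p.1 B).mul_left (comm05 K p.2 B)

theorem Phi_apply (A : Matrix.SpecialLinearGroup (Fin 3) K) (B C : SL(2, K)) :
    Phi K ((A, B), C) = phi K A * f K 0 B * f K 5 C := rfl

theorem Phi_A (A : Matrix.SpecialLinearGroup (Fin 3) K) : Phi K ((A, 1), 1) = phi K A := by
  rw [Phi_apply, map_one, map_one, mul_one, mul_one]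

theorem Phi_B (B : SL(2, K)) : Phi K ((1, B), 1) = f K 0 B := by
  rw [Phi_apply, map_one, map_one, mul_one, one_mul]

theorem Phi_C (C : SL(2, K)) : Phi K ((1, 1), C) = f K 5 C := by
  rw [Phi_apply, map_one, map_one, mul_one, one_mul]

variable {K}

abbrev cs6 : CoxeterSystem CoxeterMatrix.E₆ CoxeterMatrix.E₆.Group := CoxeterMatrix.E₆.toCoxeterSystem

theorem X_le {q : ℕ} (hq : q < chevE6.nroots) (hJ : ∀ k : Fin 6, k ∉ J6 → vec chevE6 6 q k = 0) (c : K) :
    xc hp6 (vec chevE6 6 q) c ∈ LJ cs6 hp6.isCartan (TT chevE6 K) (XX chevE6 6 K) {k | k ∈ J6} :=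
  X_le_LJ (J := {k | k ∈ J6}) (x := vec chevE6 6 q) ⟨isRoot_vec hp6 _ hq, hJ⟩ ((mem_XX hp6 hq _).2 ⟨_, rfl⟩)

theorem J56 : ∀ k : Fin 6, k ∉ J6 → vec chevE6 6 56 k = 0 ∧ vec chevE6 6 15 k = 0 ∧ vec chevE6 6 36 k = 0 ∧
    vec chevE6 6 35 k = 0 := by decide +kernel

theorem lt56 : 56 < chevE6.nroots ∧ 15 < chevE6.nroots ∧ 36 < chevE6.nroots ∧ 35 < chevE6.nroots := by decide +kernel

theorem le_of_gen {n : ℕ} {Y : Type*} [Group Y] (f : Matrix.SpecialLinearGroup (Fin n) K →* Y) (H : Subgroup Y)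
    (h : ∀ a b (hab : a ≠ b) c, f (Matrix.SpecialLinearGroup.transvection hab c) ∈ H) (A) : f A ∈ H := by
  have h1 : (⊤ : Subgroup (Matrix.SpecialLinearGroup (Fin n) K)) ≤ H.comap f := by
    rw [← Cfsg.Agent.LieClassical.SLGen.closure_transvections, Subgroup.closure_le]
    rintro _ ⟨a, b, hab, c, rfl⟩
    exact h a b hab c
  exact h1 (Subgroup.mem_top A)

theorem le_of_gen_two {Y : Type*} [Group Y] (f : SL(2, K) →* Y) (H : Subgroup Y)
    (h0 : ∀ c, f (uu c) ∈ H) (h1 : ∀ c, f (vv c) ∈ H) (A) : f A ∈ H := by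
  refine le_of_gen f H (fun a b hab c => ?_) A
  fin_cases a <;> fin_cases b
  · exact absurd rfl hab
  · exact (congrArg f (tv01 c)) ▸ h0 c
  · exact (congrArg f (tv10 c)) ▸ h1 c
  · exact absurd rfl hab

theorem phi_mem (A : Matrix.SpecialLinearGroup (Fin 3) K) :
    phi K A ∈ LJ cs6 hp6.isCartan (TT chevE6 K) (XX chevE6 6 K) {k | k ∈ J6} :=
  le_of_gen _ _ (fun a b hab c => by rw [phi_tv]; exact X_le (r6_lt a b hab) (r6_J a b hab) c) A

theorem f0_mem (A : SL(2, K)) : f K 0 A ∈ LJ cs6 hp6.isCartan (TT chevE6 K) (XX chevE6 6 K) {k | k ∈ J6} :=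
  le_of_gen_two _ _ (fun c => by rw [f0_uu]; exact X_le lt56.1 (fun k hk => (J56 k hk).1) c)
    (fun c => by rw [f0_vv]; exact X_le lt56.2.1 (fun k hk => (J56 k hk).2.1) c) A

theorem f5_mem (A : SL(2, K)) : f K 5 A ∈ LJ cs6 hp6.isCartan (TT chevE6 K) (XX chevE6 6 K) {k | k ∈ J6} :=
  le_of_gen_two _ _ (fun c => by rw [f5_uu]; exact X_le lt56.2.2.1 (fun k hk => (J56 k hk).2.2.1) c)
    (fun c => by rw [f5_vv]; exact X_le lt56.2.2.2 (fun k hk => (J56 k hk).2.2.2) c) A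

theorem Phi_mem (x : (Matrix.SpecialLinearGroup (Fin 3) K × SL(2, K)) × SL(2, K)) :
    Phi K x ∈ LJ cs6 hp6.isCartan (TT chevE6 K) (XX chevE6 6 K) {k | k ∈ J6} :=
  mul_mem (mul_mem (phi_mem x.1.1) (f0_mem x.1.2)) (f5_mem x.2)

theorem exists_up {u : ↥(chevE6.group K)} (hu : u ∈ UJ cs6 hp6.isCartan (XX chevE6 6 K) {k | k ∈ J6}) :
    ∃ U ∈ UT 3 K, ∃ b c : K, Phi K ((U, uu b), uu c) = u := by
  have h1 : UJ cs6 hp6.isCartan (XX chevE6 6 K) {k | k ∈ J6} ≤
      (((UT 3 K).prod (UT 2 K)).prod (UT 2 K)).map (Phi K) := by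
    refine RGD.Sup_le fun x hx => ?_
    obtain ⟨q, hq, rfl⟩ := (isRoot_iff hp6 _ x).1 hx.1
    intro y hy
    obtain ⟨c, rfl⟩ := (mem_XX hp6 hq y).1 hy
    have hneg : ∀ k, ¬ vec chevE6 6 q k < 0 := fun k => not_lt.2 (hx.2.1 k)
    rcases sub6 q hq hx.2.2 with ⟨a, b, hab, rfl, h1, h2⟩ | rfl | rfl | rfl | rfl
    · have hlt : a < b := by
        rcases lt_or_gt_of_ne hab with h | h
        · exact h
        · obtain ⟨k, hk⟩ := h2 h
          exact absurd hk (hneg k)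
      refine ⟨((Matrix.SpecialLinearGroup.transvection hab c, 1), 1), ⟨⟨tv_mem_UT hab hlt _, one_mem _⟩, one_mem _⟩, ?_⟩
      rw [Phi_A, phi_tv]
    · refine ⟨((1, uu c), 1), ⟨⟨one_mem _, ?_⟩, one_mem _⟩, ?_⟩
      · rw [← tv01]; exact tv_mem_UT (show (0 : Fin 2) ≠ 1 by decide) (by decide) _
      · rw [Phi_B, f0_uu]
    · exact absurd (show vec chevE6 6 15 0 < 0 by decide +kernel) (hneg 0)
    · refine ⟨((1, 1), uu c), ⟨⟨one_mem _, one_mem _⟩, ?_⟩, ?_⟩
      · rw [← tv01]; exact tv_mem_UT (show (0 : Fin 2) ≠ 1 by decide) (by decide) _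
      · rw [Phi_C, f5_uu]
    · exact absurd (show vec chevE6 6 35 5 < 0 by decide +kernel) (hneg 5)
  obtain ⟨⟨⟨U, B⟩, C⟩, ⟨⟨hU, hB⟩, hC⟩, e⟩ := h1 hu
  have key : ∀ B ∈ UT 2 K, B = uu (B.1 0 1) := by
    intro B hB
    apply Subtype.ext
    ext i j
    fin_cases i <;> fin_cases j
    · exact hB.2 0
    · rfl
    · exact hB.1 (by decide)
    · exact hB.2 1
  exact ⟨U, hU, B.1 0 1, C.1 0 1, by rw [← key B hB, ← key C hC]; exact e⟩

theorem exists_lo {u : ↥(chevE6.group K)} (hu : u ∈ UNJ cs6 hp6.isCartan (XX chevE6 6 K) {k | k ∈ J6}) :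
    ∃ U ∈ LT 3 K, ∃ b c : K, Phi K ((U, vv b), vv c) = u := by
  have h1 : UNJ cs6 hp6.isCartan (XX chevE6 6 K) {k | k ∈ J6} ≤
      (((LT 3 K).prod (LT 2 K)).prod (LT 2 K)).map (Phi K) := by
    refine RGD.Sup_le fun x hx => ?_
    obtain ⟨q, hq, hqx⟩ := (isRoot_iff hp6 cs6 x).1 (by have := hx.1.neg; rwa [_root_.neg_neg] at this)
    subst hqx
    intro y hy
    obtain ⟨c, rfl⟩ := (mem_XX hp6 hq y).1 hy
    have hpos : ∀ k, ¬ 0 < vec chevE6 6 q k := fun k => not_lt.2 (by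
      have := hx.2.1 k
      rw [Pi.neg_apply] at this
      exact neg_nonneg.1 this)
    have hJ : ∀ k : Fin 6, k ∉ J6 → vec chevE6 6 q k = 0 := fun k hk => by
      have := hx.2.2 k hk
      rw [Pi.neg_apply] at this
      exact neg_eq_zero.1 this
    rcases sub6 q hq hJ with ⟨a, b, hab, rfl, h1, h2⟩ | rfl | rfl | rfl | rfl
    · have hlt : b < a := by
        rcases lt_or_gt_of_ne hab with h | h
        · obtain ⟨k, hk⟩ := h1 h
          exact absurd hk (hpos k)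
        · exact h
      refine ⟨((Matrix.SpecialLinearGroup.transvection hab c, 1), 1), ⟨⟨tv_mem_LT hab hlt _, one_mem _⟩, one_mem _⟩, ?_⟩
      rw [Phi_A, phi_tv]
    · exact absurd (show 0 < vec chevE6 6 56 0 by decide +kernel) (hpos 0)
    · refine ⟨((1, vv c), 1), ⟨⟨one_mem _, ?_⟩, one_mem _⟩, ?_⟩
      · rw [← tv10]; exact tv_mem_LT (show (1 : Fin 2) ≠ 0 by decide) (by decide) _
      · rw [Phi_B, f0_vv]
    · exact absurd (show 0 < vec chevE6 6 36 5 by decide +kernel) (hpos 5)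
    · refine ⟨((1, 1), vv c), ⟨⟨one_mem _, one_mem _⟩, ?_⟩, ?_⟩
      · rw [← tv10]; exact tv_mem_LT (show (1 : Fin 2) ≠ 0 by decide) (by decide) _
      · rw [Phi_C, f5_vv]
  obtain ⟨⟨⟨U, B⟩, C⟩, ⟨⟨hU, hB⟩, hC⟩, e⟩ := h1 hu
  have key : ∀ B ∈ LT 2 K, B = vv (B.1 1 0) := by
    intro B hB
    apply Subtype.ext
    ext i j
    fin_cases i <;> fin_cases j
    · exact hB.2 0
    · exact hB.1 (by decide)
    · rfl
    · exact hB.2 1
  exact ⟨U, hU, B.1 1 0, C.1 1 0, by rw [← key B hB, ← key C hC]; exact e⟩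

end Hom

end Cfsg.Agent.H150.E6T
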