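import Cfsg.Agent.H150.E6T.Hom
import Cfsg.Agent.H934.MF.Diag

/-!
# `E₆` over the field with three elements: fixed points (S2443, S4171)

* `s0` : `h_1(-1) h_6(-1)`;
* `nf` : `s₀ Phi(X, t, t')`, `X` with irreducible characteristic polynomial, `t³ = t'³ = 1`, has no fixed points on the
  unipotent radicals.
-/

set_option autoImplicit false
set_option linter.unusedSectionVars false

namespace Cfsg.Agent.H150.E6T

open CoxeterSystem Cfsg.Agent.ChevalleyStructure.CoxeterGeom Cfsg.Agent.Tits.Roots Cfsg.Agent.Tits.Core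
  Cfsg.Agent.Nodes.Reps Cfsg.Agent.Nodes.BNOf Cfsg.Agent.Nodes.RGDLib Cfsg.Agent.Nodes.Bruhat
  Cfsg.Agent.Nodes.OppDec Cfsg.Agent.Nodes.LeviDec Cfsg.Agent.Nodes.KindChev Cfsg.Agent.Nodes.ChevCls
  Cfsg.Agent.Nodes.StabComb
  Cfsg.Agent.OddHalf.NI.ModelChev
  Cfsg.Agent.H162.GaussDec Cfsg.Agent.H162.GaussLevi Cfsg.Agent.H162.GaussSL Cfsg.Agent.H162.GaussExcMain
  Cfsg.Agent.H162.GaussMain Cfsg.Agent.H162.GaussReg Cfsg.Agent.H162.GaussPQ
open Cfsg.Lie Cfsg.Agent.ChevalleyStructure Cfsg.Agent.ChevalleyStructure.Elts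
  Cfsg.Agent.ChevalleyStructure.RootVec Cfsg.Agent.ChevalleyStructure.NPerm
  Cfsg.Agent.ChevalleyStructure.CoxeterGeomTypes Cfsg.Agent.Nodes.RGDChev Cfsg.Agent.KFacts.RgdChevCoord
open Cfsg.Agent.FixBN.FieldRGD (uu vv dd ww)
open Cfsg.Agent.H928.Ore.Frame Cfsg.Agent.H928.Ore.Fix Cfsg.Agent.H928.Ore.Block
open scoped MatrixGroups

universe u v

section

variable (K : Type u) [Field K]

/-- the values `-1` at the nodes `1` and `6` -/
def sig : Fin 6 → Kˣ := Pi.mulSingle 0 (-1) * Pi.mulSingle 5 (-1)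

/-- the element `h_1(-1) h_6(-1)` -/
noncomputable def s0 : ↥(chevE6.group K) := th hp6 (sig K)

theorem s0_eq : s0 K = f K 0 (dd (-1) (neg_ne_zero.2 one_ne_zero)) * f K 5 (dd (-1) (neg_ne_zero.2 one_ne_zero)) := by
  have e : ∀ i : Fin 6, th hp6 (K := K) (Pi.mulSingle i (-1)) = f K i (dd (-1) (neg_ne_zero.2 one_ne_zero)) := by
    intro i
    rw [th_mulSingle]
    rfl
  unfold s0 sig
  rw [map_mul, e, e]

variable {K}

theorem sig_char (r : ℕ) :
    ∏ k : Fin 6, ((sig K k : Kˣ) : K) ^ chevE6.cartan k r = (-1) ^ (chevE6.cartan 0 r + chevE6.cartan 5 r) := by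
  rw [Fin.prod_univ_six]
  simp only [sig, Pi.mul_apply]
  rw [zpow_add₀ (neg_ne_zero.2 one_ne_zero)]
  simp

end

/-! ### Base change -/

section

variable {K : Type u} {L : Type v} [Field K] [Field L] (ι : K →+* L)

theorem map_tv {n : ℕ} {a b : Fin n} (hab : a ≠ b) (c : K) :
    Matrix.SpecialLinearGroup.map ι (Matrix.SpecialLinearGroup.transvection hab c) =
      Matrix.SpecialLinearGroup.transvection hab (ι c) := by
  apply Subtype.ext
  change (1 + Matrix.single a b c : Matrix (Fin n) (Fin n) K).map ι = 1 + Matrix.single a b (ι c)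
  ext i j
  simp only [Matrix.map_apply, Matrix.add_apply, Matrix.one_apply, Matrix.single_apply, map_add]
  congr 1
  · split_ifs <;> simp
  · split_ifs <;> simp

theorem bc_phi (A : Matrix.SpecialLinearGroup (Fin 3) K) :
    bc chevE6 ι (phi K A) = phi L (Matrix.SpecialLinearGroup.map ι A) := by
  have h1 : (bc chevE6 ι).comp (phi K) = (phi L).comp (Matrix.SpecialLinearGroup.map ι) := by
    refine hom_ext fun a b hab c => ?_
    have h2 := map_tv ι hab c
    rw [MonoidHom.comp_apply, MonoidHom.comp_apply, h2, phi_tv, phi_tv, bc_xc hp6 ι (r6_lt a b hab)]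
  exact DFunLike.congr_fun h1 A

theorem bc_f (i : Fin 6) (A : SL(2, K)) : bc chevE6 ι (f K i A) = f L i (Matrix.SpecialLinearGroup.map ι A) := by
  have h1 : (bc chevE6 ι).comp (f K i) = (f L i).comp (Matrix.SpecialLinearGroup.map ι) := by
    have hi := simple_lt hp6.inList (lt_rank hp6 i)
    have hn : vec chevE6 6 (chevE6.neg (chevE6.simple i)) = -sr i := by
      rw [vec_neg hp6 hi, vec_simple hp6 i]
    refine hom_ext fun a b hab c => ?_
    have h2 := map_tv ι hab c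
    rw [MonoidHom.comp_apply, MonoidHom.comp_apply, h2]
    fin_cases a <;> fin_cases b
    · exact absurd rfl hab
    · refine (congrArg (fun y => bc chevE6 ι (f K i y)) (tv01 c)).trans
        (Eq.trans ?_ (congrArg (f L i) (tv01 (ι c))).symm)
      change bc chevE6 ι (sl hp6 i (uu c)) = sl hp6 i (uu (ι c))
      rw [sl_uu, sl_uu, ← vec_simple hp6 i, bc_xc hp6 ι hi]
    · refine (congrArg (fun y => bc chevE6 ι (f K i y)) (tv10 c)).trans
        (Eq.trans ?_ (congrArg (f L i) (tv10 (ι c))).symm)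
      change bc chevE6 ι (sl hp6 i (vv c)) = sl hp6 i (vv (ι c))
      rw [sl_vv, sl_vv, ← hn, bc_xc hp6 ι (neg_lt hp6.inList hi)]
    · exact absurd rfl hab
  exact DFunLike.congr_fun h1 A

theorem bc_s0 : bc chevE6 ι (s0 K) = s0 L := by
  rw [s0_eq, s0_eq, map_mul, bc_f, bc_f]
  have h : Matrix.SpecialLinearGroup.map ι (dd (-1 : K) (neg_ne_zero.2 one_ne_zero)) =
      dd (-1 : L) (neg_ne_zero.2 one_ne_zero) := by
    apply Subtype.ext
    change (!![(-1 : K), 0; 0, (-1)⁻¹]).map ι = !![(-1 : L), 0; 0, (-1)⁻¹]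
    ext i j
    fin_cases i <;> fin_cases j <;> simp
  rw [h]

end

/-! ### Fixed points -/

theorem sig6 : ∀ a b : Fin 3, a ≠ b → (chevE6.cartan 0 (r6 a b) + chevE6.cartan 5 (r6 a b)) % 2 = 0 := by
  decide +kernel

theorem tab6 : ∀ s < chevE6.nroots, (∃ k : Fin 6, k ∉ J6 ∧ vec chevE6 6 s k ≠ 0) →
    (chevE6.cartan 3 s = 0 ∧ chevE6.cartan 1 s = 0 ∧ (chevE6.cartan 0 s + chevE6.cartan 5 s) % 2 = 1) ∨
      (chevE6.cartan 3 s, chevE6.cartan 1 s) ∈ [((1 : ℤ), (0 : ℤ)), (-1, 0), (0, 1), (0, -1), (1, -1), (-1, 1)] := by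
  refine @of_decide_eq_true _ ?_ ?_
  · refine @Nat.decidableBallLT _ _ fun q _ => ?_
    refine @instDecidableForall _ _ inferInstance ?_
    refine @instDecidableOr _ _ inferInstance ?_
    exact List.instDecidableMemOfLawfulBEq _ _
  · decide +kernel

theorem nf_split {L : Type v} [Field L] [Finite L] (h2 : (-1 : L) ≠ 1) {a b : Lˣ} (ha : (a : L) ^ 2 ≠ 1)
    (hb : (b : L) ^ 2 ≠ 1) (hab : (a : L) ^ 2 ≠ (b : L) ^ 2) {x P : Matrix.SpecialLinearGroup (Fin 3) L}
    (hx : x = P * dg3 a b * P⁻¹) :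
    NF (VJ cs6 hp6.isCartan (XX chevE6 6 L) {k | k ∈ J6}) (s0 L * phi L x) ∧
      NF (VNJ cs6 hp6.isCartan (XX chevE6 6 L) {k | k ∈ J6}) (s0 L * phi L x) := by
  have ha0 : (a : L) ≠ 0 := a.ne_zero
  have hb0 : (b : L) ≠ 0 := b.ne_zero
  refine nf_block hp6 (ε := 1) (by norm_num) r6_lt r6_neg (phi_tv' L) (i := 3) (j := 1) simple6.2.2.2.2.1
    simple6.2.2.2.2.2 (J := {k | k ∈ J6}) r6_J (σ := sig L) (fun a b hab => ?_) (fun s hs hk => ?_) hx
  · rw [sig_char]
    exact (Int.even_iff.2 (sig6 a b hab)).neg_one_zpow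
  · rw [sig_char]
    change (-1 : L) ^ (chevE6.cartan 0 s + chevE6.cartan 5 s) *
      ((a : L) ^ chevE6.cartan 3 s * (b : L) ^ chevE6.cartan 1 s) ≠ 1
    rcases tab6 s hs hk with ⟨h3, h1, h5⟩ | h
    · rw [h3, h1, (Int.odd_iff.2 h5).neg_one_zpow, zpow_zero, zpow_zero, mul_one, mul_one]
      exact h2
    · intro e
      have e1 : ((a : L) ^ chevE6.cartan 3 s * (b : L) ^ chevE6.cartan 1 s) ^ 2 = 1 := by
        have e2 : ((-1 : L) ^ (chevE6.cartan 0 s + chevE6.cartan 5 s)) ^ 2 = 1 := by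
          rcases Int.even_or_odd (chevE6.cartan 0 s + chevE6.cartan 5 s) with h6 | h6
          · rw [h6.neg_one_zpow, one_pow]
          · rw [h6.neg_one_zpow]; norm_num
        have e3 : ((-1 : L) ^ (chevE6.cartan 0 s + chevE6.cartan 5 s) *
            ((a : L) ^ chevE6.cartan 3 s * (b : L) ^ chevE6.cartan 1 s)) ^ 2 = 1 ^ 2 := by rw [e]
        rw [mul_pow, e2, one_mul, one_pow] at e3
        exact e3
      simp only [List.mem_cons, Prod.mk.injEq, List.not_mem_nil, or_false] at h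
      rcases h with ⟨h3, h1⟩ | ⟨h3, h1⟩ | ⟨h3, h1⟩ | ⟨h3, h1⟩ | ⟨h3, h1⟩ | ⟨h3, h1⟩ <;> rw [h3, h1] at e1
      · apply ha; simpa using e1
      · apply ha
        rw [zpow_zero, mul_one, zpow_neg, zpow_one, inv_pow] at e1
        exact inv_eq_one.1 e1
      · apply hb; simpa using e1
      · apply hb
        rw [zpow_zero, one_mul, zpow_neg, zpow_one, inv_pow] at e1
        exact inv_eq_one.1 e1
      · apply hab
        rw [zpow_neg, zpow_one, zpow_one, mul_pow, inv_pow] at e1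
        exact eq_of_div_eq_one (by rw [div_eq_mul_inv]; exact e1)
      · apply hab
        rw [zpow_neg, zpow_one, zpow_one, mul_pow, inv_pow, mul_comm] at e1
        exact (eq_of_div_eq_one (by rw [div_eq_mul_inv]; exact e1)).symm

theorem exists_split {L : Type v} [Field L] {Z : Matrix.SpecialLinearGroup (Fin 3) L} {g : GL (Fin 3) L}
    {lam : Fin 3 → L} (h : (Z : Matrix (Fin 3) (Fin 3) L) =
      (g : Matrix (Fin 3) (Fin 3) L) * Matrix.diagonal lam * ((g⁻¹ : GL (Fin 3) L) : Matrix (Fin 3) (Fin 3) L)) :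
    ∃ (a b : Lˣ) (P : Matrix.SpecialLinearGroup (Fin 3) L), (a : L) = lam 0 ∧ ((b⁻¹ : Lˣ) : L) = lam 2 ∧
      ((a⁻¹ * b : Lˣ) : L) = lam 1 ∧ Z = P * dg3 a b * P⁻¹ := by
  have hgg : ((g⁻¹ : GL (Fin 3) L) : Matrix (Fin 3) (Fin 3) L) * (g : Matrix (Fin 3) (Fin 3) L) = 1 := by
    rw [← Units.val_mul, inv_mul_cancel, Units.val_one]
  have hdg : (g : Matrix (Fin 3) (Fin 3) L).det ≠ 0 :=
    (Matrix.isUnit_iff_isUnit_det _).1 g.isUnit |>.ne_zero
  have hdgg : ((g⁻¹ : GL (Fin 3) L) : Matrix (Fin 3) (Fin 3) L).det * (g : Matrix (Fin 3) (Fin 3) L).det = 1 := by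
    rw [← Matrix.det_mul, hgg, Matrix.det_one]
  have hprod : lam 0 * lam 1 * lam 2 = 1 := by
    have h1 := congrArg Matrix.det h
    rw [Matrix.det_mul, Matrix.det_mul, Matrix.det_diagonal, Fin.prod_univ_three, mul_right_comm,
      mul_comm (g : Matrix (Fin 3) (Fin 3) L).det, hdgg, one_mul] at h1
    rw [← h1]
    exact Z.2
  have h0 : lam 0 ≠ 0 := left_ne_zero_of_mul (left_ne_zero_of_mul_eq_one hprod)
  have h2 : lam 2 ≠ 0 := right_ne_zero_of_mul_eq_one hprod
  have h3 : (lam 0)⁻¹ * (lam 2)⁻¹ = lam 1 := by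
    rw [← mul_inv]
    exact inv_eq_of_mul_eq_one_right (by rw [← hprod]; ring)
  have hP : ((g : Matrix (Fin 3) (Fin 3) L) *
      Matrix.diagonal ![((g : Matrix (Fin 3) (Fin 3) L).det)⁻¹, 1, 1]).det = 1 := by
    rw [Matrix.det_mul, Matrix.det_diagonal, Fin.prod_univ_three]
    simp [hdg]
  refine ⟨Units.mk0 _ h0, (Units.mk0 _ h2)⁻¹, ⟨(g : Matrix (Fin 3) (Fin 3) L) *
    Matrix.diagonal ![((g : Matrix (Fin 3) (Fin 3) L).det)⁻¹, 1, 1], hP⟩, rfl, ?_, ?_, ?_⟩
  · rw [inv_inv]; rfl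
  · rw [Units.val_mul, Units.val_inv_eq_inv_val, Units.val_inv_eq_inv_val, Units.val_mk0, Units.val_mk0]
    exact h3
  · refine eq_mul_inv_of_mul_eq ?_
    apply Subtype.ext
    change (Z : Matrix (Fin 3) (Fin 3) L) * ((g : Matrix (Fin 3) (Fin 3) L) *
      Matrix.diagonal ![((g : Matrix (Fin 3) (Fin 3) L).det)⁻¹, 1, 1]) = ((g : Matrix (Fin 3) (Fin 3) L) *
      Matrix.diagonal ![((g : Matrix (Fin 3) (Fin 3) L).det)⁻¹, 1, 1]) * Matrix.diagonal ![_, _, _]
    have e1 : (Matrix.diagonal ![(((Units.mk0 _ h0 : Lˣ) : L)),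
        ((((Units.mk0 _ h0 : Lˣ))⁻¹ * (Units.mk0 _ h2 : Lˣ)⁻¹ : Lˣ) : L),
        ((((Units.mk0 _ h2 : Lˣ)⁻¹)⁻¹ : Lˣ) : L)] : Matrix (Fin 3) (Fin 3) L) = Matrix.diagonal lam := by
      congr 1
      funext i
      fin_cases i
      · rfl
      · change ((((Units.mk0 _ h0 : Lˣ))⁻¹ * (Units.mk0 _ h2 : Lˣ)⁻¹ : Lˣ) : L) = lam 1
        rw [Units.val_mul, Units.val_inv_eq_inv_val, Units.val_inv_eq_inv_val, Units.val_mk0, Units.val_mk0]
        exact h3
      · change ((((Units.mk0 _ h2 : Lˣ)⁻¹)⁻¹ : Lˣ) : L) = lam 2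
        rw [inv_inv]; rfl
    rw [e1, h]
    calc (g : Matrix (Fin 3) (Fin 3) L) * Matrix.diagonal lam * ((g⁻¹ : GL (Fin 3) L) : Matrix (Fin 3) (Fin 3) L) *
          ((g : Matrix (Fin 3) (Fin 3) L) * Matrix.diagonal ![((g : Matrix (Fin 3) (Fin 3) L).det)⁻¹, 1, 1])
        = (g : Matrix (Fin 3) (Fin 3) L) * Matrix.diagonal lam *
          (((g⁻¹ : GL (Fin 3) L) : Matrix (Fin 3) (Fin 3) L) * (g : Matrix (Fin 3) (Fin 3) L)) *
          Matrix.diagonal ![((g : Matrix (Fin 3) (Fin 3) L).det)⁻¹, 1, 1] := by simp only [Matrix.mul_assoc]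
      _ = (g : Matrix (Fin 3) (Fin 3) L) * (Matrix.diagonal lam *
          Matrix.diagonal ![((g : Matrix (Fin 3) (Fin 3) L).det)⁻¹, 1, 1]) := by
        rw [hgg, Matrix.mul_one, Matrix.mul_assoc]
      _ = (g : Matrix (Fin 3) (Fin 3) L) * (Matrix.diagonal ![((g : Matrix (Fin 3) (Fin 3) L).det)⁻¹, 1, 1] *
          Matrix.diagonal lam) := by
        congr 1
        rw [Matrix.diagonal_mul_diagonal, Matrix.diagonal_mul_diagonal]
        congr 1
        funext i
        exact mul_comm _ _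
      _ = _ := by rw [Matrix.mul_assoc]

section

variable {K : Type u} [Field K]

/-- `-1` -/
def mI (K : Type u) [Field K] : SL(2, K) := Cfsg.Agent.FixBN.FieldRGD.dd (-1) (neg_ne_zero.2 one_ne_zero)

theorem mI_coe : (mI K).1 = -1 := by
  change !![(-1 : K), 0; 0, (-1)⁻¹] = -1
  ext i j
  fin_cases i <;> fin_cases j <;> simp

theorem mI_comm (A : SL(2, K)) : mI K * A = A * mI K := by
  apply Subtype.ext
  change (mI K).1 * A.1 = A.1 * (mI K).1
  rw [mI_coe, neg_one_mul, mul_neg_one]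

theorem mI_sq : mI K * mI K = 1 := by
  apply Subtype.ext
  change (mI K).1 * (mI K).1 = 1
  rw [mI_coe, neg_mul_neg, one_mul]

theorem s0_Phi : s0 K = Phi K ((1, mI K), mI K) := by
  rw [s0_eq, Phi_apply, map_one, one_mul]
  rfl

theorem s0_comm (x : (Matrix.SpecialLinearGroup (Fin 3) K × SL(2, K)) × SL(2, K)) :
    s0 K * Phi K x = Phi K x * s0 K := by
  rw [s0_Phi, ← map_mul, ← map_mul]
  congr 1
  ext1
  · ext1
    · change 1 * x.1.1 = x.1.1 * 1
      rw [one_mul, mul_one]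
    · exact mI_comm _
  · exact mI_comm _

theorem s0_sq : s0 K * s0 K = 1 := by
  rw [s0_Phi, ← map_mul, ← map_one (Phi K)]
  congr 1
  ext1
  · ext1
    · exact mul_one 1
    · exact mI_sq
  · exact mI_sq

/-- **Fixed points.** -/
theorem nf [Finite K] (hK : Nat.card K = 3) {X : Matrix.SpecialLinearGroup (Fin 3) K}
    (hX : Irreducible X.1.charpoly) {t t' : SL(2, K)} (ht : t ^ 3 = 1) (ht' : t' ^ 3 = 1) :
    NF (VJ cs6 hp6.isCartan (XX chevE6 6 K) {k | k ∈ J6}) (s0 K * Phi K ((X, t), t')) ∧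
      NF (VNJ cs6 hp6.isCartan (XX chevE6 6 K) {k | k ∈ J6}) (s0 K * Phi K ((X, t), t')) := by
  classical
  -- the third power
  have h3 : (s0 K * Phi K ((X, t), t')) ^ 3 = s0 K * phi K (X ^ 3) := by
    have h1 : Commute (s0 K) (Phi K ((X, t), t')) := s0_comm _
    rw [h1.mul_pow, ← map_pow, pow_succ, pow_two, s0_sq, one_mul]
    congr 1
    have h2 : (((X, t), t') : (Matrix.SpecialLinearGroup (Fin 3) K × SL(2, K)) × SL(2, K)) ^ 3 = ((X ^ 3, 1), 1) := by
      rw [Prod.pow_mk, Prod.pow_mk, ht, ht']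
    rw [h2, Phi_A]
  -- the extension
  have := Fintype.ofFinite K
  have hK' : Fintype.card K = 3 := by rw [← Nat.card_eq_fintype_card, hK]
  have hfact : Fact (Irreducible X.1.charpoly) := ⟨hX⟩
  have hmon : X.1.charpoly.Monic := X.1.charpoly_monic
  have hdeg : X.1.charpoly.natDegree = 3 := by
    rw [Matrix.charpoly_natDegree_eq_dim, Fintype.card_fin]
  obtain ⟨L, hLF, hLA, hLfin, z, hz⟩ : ∃ (L : Type u) (_ : Field L) (_ : Algebra K L) (_ : Finite L) (z : L),
      minpoly K z = X.1.charpoly := by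
    have hfd : FiniteDimensional K (AdjoinRoot X.1.charpoly) := (AdjoinRoot.powerBasis hX.ne_zero).finite
    refine ⟨AdjoinRoot X.1.charpoly, inferInstance, inferInstance, Module.finite_of_finite K, AdjoinRoot.root _, ?_⟩
    rw [AdjoinRoot.minpoly_root hX.ne_zero, hmon.leadingCoeff, inv_one, map_one, mul_one]
  have hzdeg : (minpoly K z).natDegree = 3 := by rw [hz, hdeg]
  obtain ⟨g, hg⟩ := Cfsg.Agent.H934.MF.diag_irr hzdeg X.1 hz.symm
  rw [hK'] at hg
  -- characteristic three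
  have h30 : (3 : K) = 0 := by
    have := Nat.cast_card_eq_zero K
    rw [hK'] at this
    exact_mod_cast this
  have h30L : (3 : L) = 0 := by
    have := congrArg (algebraMap K L) h30
    rwa [map_ofNat, map_zero] at this
  -- the cube
  obtain ⟨a, b, P, ha, hb, hab, hP⟩ := exists_split (Z := Matrix.SpecialLinearGroup.map (algebraMap K L) (X ^ 3)) (g := g)
    (lam := fun i => (z ^ (3 ^ (i : ℕ))) ^ 3) (by
      have e1 : ((Matrix.SpecialLinearGroup.map (algebraMap K L) (X ^ 3) : Matrix.SpecialLinearGroup (Fin 3) L) :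
          Matrix (Fin 3) (Fin 3) L) = (X.1.map (algebraMap K L)) ^ 3 := by
        rw [map_pow, Matrix.SpecialLinearGroup.coe_pow]
        rfl
      rw [e1, hg]
      have e2 : ((g⁻¹ : GL (Fin 3) L) : Matrix (Fin 3) (Fin 3) L) * (g : Matrix (Fin 3) (Fin 3) L) = 1 := by
        rw [← Units.val_mul, inv_mul_cancel, Units.val_one]
      have e3 : Matrix.diagonal (fun i : Fin 3 => (z ^ (3 ^ (i : ℕ))) ^ 3) =
          (Matrix.diagonal (fun i : Fin 3 => z ^ (3 ^ (i : ℕ)))) ^ 3 := by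
        rw [Matrix.diagonal_pow]
        rfl
      rw [e3]
      generalize Matrix.diagonal (fun i : Fin 3 => z ^ (3 ^ (i : ℕ))) = E
      calc ((g : Matrix (Fin 3) (Fin 3) L) * E * ((g⁻¹ : GL (Fin 3) L) : Matrix (Fin 3) (Fin 3) L)) ^ 3
          = (g : Matrix (Fin 3) (Fin 3) L) * E * (((g⁻¹ : GL (Fin 3) L) : Matrix (Fin 3) (Fin 3) L) *
            (g : Matrix (Fin 3) (Fin 3) L)) * E * (((g⁻¹ : GL (Fin 3) L) : Matrix (Fin 3) (Fin 3) L) *
            (g : Matrix (Fin 3) (Fin 3) L)) * E * ((g⁻¹ : GL (Fin 3) L) : Matrix (Fin 3) (Fin 3) L) := by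
            rw [pow_succ, pow_two]; simp only [Matrix.mul_assoc]
        _ = _ := by
            rw [e2, mul_one, mul_one, pow_succ, pow_two]; simp only [Matrix.mul_assoc])
  simp only [Fin.val_zero, Fin.val_one, Fin.val_two] at ha hb hab
  -- the order of `z`
  have h39 : (z ^ 13) ^ 3 = 1 := by
    have e1 : (a : L) * ((a⁻¹ * b : Lˣ) : L) * ((b⁻¹ : Lˣ) : L) = 1 := by
      rw [← Units.val_mul, ← Units.val_mul]
      rw [show a * (a⁻¹ * b) * b⁻¹ = 1 by group, Units.val_one]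
    rw [ha, hab, hb] at e1
    rw [← e1]; ring
  have h13 : z ^ 13 = 1 := by
    have e1 : (z ^ 13 - 1) ^ 3 = 0 := by linear_combination h39 - (z ^ 13 * (z ^ 13 - 1)) * h30L
    exact sub_eq_zero.1 (pow_eq_zero_iff (by norm_num) |>.1 e1)
  have hz1 : z ≠ 1 := by
    rintro rfl
    rw [minpoly.one, ← Polynomial.C_1, Polynomial.natDegree_X_sub_C] at hzdeg
    omega
  have hord : orderOf z = 13 := by
    have : Fact (Nat.Prime 13) := ⟨by norm_num⟩
    exact orderOf_eq_prime h13 hz1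
  have hpow : ∀ k : ℕ, z ^ k = 1 → 13 ∣ k := fun k hk => hord ▸ orderOf_dvd_of_pow_eq_one hk
  have hb' : (b : L) * z ^ 27 = 1 := by
    have : (b : L) * ((b⁻¹ : Lˣ) : L) = 1 := by rw [← Units.val_mul, mul_inv_cancel, Units.val_one]
    rw [hb] at this
    rw [← this]; ring
  have key := nf_split (L := L) (a := a) (b := b) (x := Matrix.SpecialLinearGroup.map (algebraMap K L) (X ^ 3)) (P := P)
    (fun h => one_ne_zero (α := L) (by linear_combination h30L + h)) (fun h => ?_) (fun h => ?_) (fun h => ?_) hP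
  · have hbc : bc chevE6 (algebraMap K L) (s0 K * phi K (X ^ 3)) =
        s0 L * phi L (Matrix.SpecialLinearGroup.map (algebraMap K L) (X ^ 3)) := by
      rw [map_mul, bc_s0, bc_phi]
    rw [← hbc] at key
    have h5 := NF.of_hom (bc chevE6 (algebraMap K L)) (bc_injective chevE6 _) (VJ_le_comap hp6 (algebraMap K L) _) key.1
    have h6 := NF.of_hom (bc chevE6 (algebraMap K L)) (bc_injective chevE6 _) (VNJ_le_comap hp6 (algebraMap K L) _) key.2
    rw [← h3] at h5 h6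
    exact ⟨fun x hx e => h5 x hx (Cfsg.Agent.H162.GaussMain.conj_pow_fix e 3),
      fun x hx e => h6 x hx (Cfsg.Agent.H162.GaussMain.conj_pow_fix e 3)⟩
  · rw [ha] at h
    have := hpow 6 (by rw [← h]; ring)
    omega
  · have := hpow 54 (by
      have e1 : ((b : L) * z ^ 27) ^ 2 = 1 := by rw [hb', one_pow]
      rw [mul_pow, h, one_mul] at e1
      rw [← e1]; ring)
    omega
  · have := hpow 60 (by
      have e1 : ((b : L) * z ^ 27) ^ 2 = 1 := by rw [hb', one_pow]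
      rw [mul_pow, ← h, ha] at e1
      rw [← e1]; ring)
    omega

end

end Cfsg.Agent.H150.E6T
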