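import Cfsg.Agent.H150.E6T.Fix
import Cfsg.Agent.H335.Sr.Symm
import Cfsg.Agent.H374.Ore.Sl3
import Cfsg.Agent.H777.Ore.Base

/-!
# `E₆` over the field with three elements (S2443, S4171)

* `ore_e6_three` : every element is a commutator;
* `inv_e6_three` : every element is a product of four elements of square one.
-/

set_option autoImplicit false
set_option linter.unusedSectionVars false

namespace Cfsg.Agent.H150.E6T

open CoxeterSystem Cfsg.Agent.ChevalleyStructure.CoxeterGeom Cfsg.Agent.Tits.Roots Cfsg.Agent.Tits.Core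
  Cfsg.Agent.Nodes.Reps Cfsg.Agent.Nodes.BNOf Cfsg.Agent.Nodes.RGDLib Cfsg.Agent.Nodes.Bruhat
  Cfsg.Agent.Nodes.OppDec Cfsg.Agent.Nodes.LeviDec Cfsg.Agent.Nodes.KindChev Cfsg.Agent.Nodes.ChevCls
  Cfsg.Agent.Nodes.StabComb
  Cfsg.Agent.OddHalf.NI.ModelChev
  Cfsg.Agent.H162.GaussDec Cfsg.Agent.H162.GaussLevi Cfsg.Agent.H162.GaussSL Cfsg.Agent.H162.GaussExcMain
  Cfsg.Agent.H162.GaussMain Cfsg.Agent.H162.GaussReg Cfsg.Agent.H162.GaussPQ
open Cfsg.Lie Cfsg.Agent.ChevalleyStructure Cfsg.Agent.ChevalleyStructure.Elts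
  Cfsg.Agent.ChevalleyStructure.RootVec Cfsg.Agent.ChevalleyStructure.NPerm
  Cfsg.Agent.ChevalleyStructure.CoxeterGeomTypes Cfsg.Agent.Nodes.RGDChev Cfsg.Agent.KFacts.RgdChevCoord
open Cfsg.Agent.FixBN.FieldRGD (uu vv dd ww)
open Cfsg.Agent.H928.Ore.Frame Cfsg.Agent.H928.Ore.Fix Cfsg.Agent.H928.Ore.Block
open Cfsg.Agent.H777.Ore
open scoped MatrixGroups

universe u v

/-! ### `SL₂` -/

section two

variable {K : Type u} [Field K]

/-- the transvections -/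
def Tv (t : SL(2, K)) : Prop := ∃ (g : SL(2, K)) (c : K), c ≠ 0 ∧ t = g * uu c * g⁻¹

theorem uu_add (a b : K) : uu (a + b) = uu a * uu b := Cfsg.Agent.FixBN.FieldRGD.uu_add a b

theorem uu_zero : uu (0 : K) = 1 := by
  apply Subtype.ext
  change !![1, (0 : K); 0, 1] = 1
  ext i j
  fin_cases i <;> fin_cases j <;> simp

theorem uu_inv (a : K) : (uu a)⁻¹ = uu (-a) := by
  rw [inv_eq_iff_mul_eq_one, ← uu_add, add_neg_cancel, uu_zero]

/-- `w` -/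
def w1 (K : Type u) [Field K] : SL(2, K) := ww 1 one_ne_zero

theorem w1_uu (a : K) : w1 K * uu a * (w1 K)⁻¹ = vv (-a) := by
  rw [mul_inv_eq_iff_eq_mul]
  apply Subtype.ext
  change !![0, (1 : K); -1⁻¹, 0] * !![1, a; 0, 1] = !![1, 0; -a, 1] * !![0, (1 : K); -1⁻¹, 0]
  rw [Matrix.mul_fin_two, Matrix.mul_fin_two]
  ext i j
  fin_cases i <;> fin_cases j <;> simp

theorem tv_uu {a : K} (ha : a ≠ 0) : Tv (uu a) := ⟨1, a, ha, by group⟩

theorem tv_vv {a : K} (ha : a ≠ 0) : Tv (vv a) := ⟨w1 K, -a, neg_ne_zero.2 ha, by rw [w1_uu, _root_.neg_neg]⟩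

theorem Tv.inv {t : SL(2, K)} (h : Tv t) : Tv t⁻¹ := by
  obtain ⟨g, c, hc, rfl⟩ := h
  exact ⟨g, -c, neg_ne_zero.2 hc, by rw [← uu_inv]; group⟩

theorem vv_add (a b : K) : vv (a + b) = vv a * vv b := by
  have h : ∀ a : K, vv a = w1 K * uu (-a) * (w1 K)⁻¹ := fun a => by rw [w1_uu, _root_.neg_neg]
  rw [h a, h b, h (a + b), _root_.neg_add, uu_add]
  group

theorem vv_zero : vv (0 : K) = 1 := by
  have h : vv (0 : K) = w1 K * uu (-0) * (w1 K)⁻¹ := by rw [w1_uu, _root_.neg_neg]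
  rw [h, neg_zero, uu_zero]; group

theorem Tv.pow {t : SL(2, K)} (h3 : (3 : K) = 0) (h : Tv t) : t ^ 3 = 1 := by
  obtain ⟨g, c, -, rfl⟩ := h
  rw [conj_pow, pow_succ, pow_two, ← uu_add, ← uu_add, show c + c + c = 3 * c by ring, h3, zero_mul, uu_zero]
  group

theorem two_lu (h3 : (3 : K) = 0) (a b : K) : ∃ t t' : SL(2, K), vv a * uu b = t * t' ∧ Tv t ∧ Tv t' := by
  by_cases ha : a = 0
  · by_cases hb : b = 0
    · refine ⟨uu 1, uu (-1), ?_, tv_uu one_ne_zero, tv_uu (neg_ne_zero.2 one_ne_zero)⟩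
      rw [ha, hb, vv_zero, uu_zero, ← uu_add, add_neg_cancel, uu_zero, one_mul]
    · refine ⟨uu (-b), uu (-b), ?_, tv_uu (neg_ne_zero.2 hb), tv_uu (neg_ne_zero.2 hb)⟩
      rw [ha, vv_zero, one_mul, ← uu_add]
      congr 1
      linear_combination b * h3
  · by_cases hb : b = 0
    · refine ⟨vv (-a), vv (-a), ?_, tv_vv (neg_ne_zero.2 ha), tv_vv (neg_ne_zero.2 ha)⟩
      rw [hb, uu_zero, mul_one, ← vv_add]
      congr 1
      linear_combination a * h3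
    · exact ⟨vv a, uu b, rfl, tv_vv ha, tv_uu hb⟩

end two

/-! ### The torus elements -/

section tor

variable {K : Type u} [Field K]

/-- the values of a torus element with prescribed action on the two `SL₂` -/
def tauS (a b : Kˣ) : Fin 6 → Kˣ := Pi.mulSingle 1 (a * b) * (Pi.mulSingle 2 a * Pi.mulSingle 4 b)

theorem tauS_char (a b : Kˣ) (r : ℕ) :
    ∏ k : Fin 6, ((tauS a b k : Kˣ) : K) ^ chevE6.cartan k r =
      (a : K) ^ (chevE6.cartan 1 r + chevE6.cartan 2 r) * (b : K) ^ (chevE6.cartan 1 r + chevE6.cartan 4 r) := by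
  have ha : (a : K) ≠ 0 := a.ne_zero
  have hb : (b : K) ≠ 0 := b.ne_zero
  rw [Fin.prod_univ_six]
  simp only [tauS, Pi.mul_apply]
  rw [zpow_add₀ ha, zpow_add₀ hb]
  simp [mul_zpow]
  ring

theorem tau_tab : (∀ a b : Fin 3, a ≠ b → (chevE6.cartan 1 (r6 a b) + chevE6.cartan 2 (r6 a b)) % 2 = 0 ∧
    (chevE6.cartan 1 (r6 a b) + chevE6.cartan 4 (r6 a b)) % 2 = 0) ∧
    (chevE6.cartan 1 56 + chevE6.cartan 2 56 = -1 ∧ chevE6.cartan 1 56 + chevE6.cartan 4 56 = 0) ∧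
    (chevE6.cartan 1 35 + chevE6.cartan 2 35 = 0 ∧ chevE6.cartan 1 35 + chevE6.cartan 4 35 = 1) := by decide +kernel

theorem unit_zpow {a : Kˣ} (ha : a ^ 2 = 1) {n : ℤ} (hn : n % 2 = 0) : (a : K) ^ n = 1 := by
  obtain ⟨m, rfl⟩ := Int.dvd_of_emod_eq_zero hn
  have h1 : (a : K) ^ (2 : ℤ) = 1 := by
    rw [← Units.val_zpow_eq_zpow_val, show ((2 : ℤ)) = ((2 : ℕ) : ℤ) from rfl, zpow_natCast, ha, Units.val_one]
  rw [zpow_mul, h1, one_zpow]

/-- **The torus elements.** -/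
theorem exists_tau {a b : Kˣ} (ha : a ^ 2 = 1) (hb : b ^ 2 = 1) :
    ∃ τ : ↥(chevE6.group K), (∀ A, τ * phi K A * τ⁻¹ = phi K A) ∧ τ * s0 K * τ⁻¹ = s0 K ∧
      (∀ c, τ * f K 0 (uu c) * τ⁻¹ = f K 0 (uu (a * c))) ∧ ∀ c, τ * f K 5 (vv c) * τ⁻¹ = f K 5 (vv (b * c)) := by
  have hth : ∀ t : Fin 6 → Kˣ, th hp6 t ∈ TT chevE6 K := fun t => (thT hp6 t).2
  refine ⟨th hp6 (tauS a b), fun A => ?_, ?_, fun c => ?_, fun c => ?_⟩
  · have h1 := comm_phi hp6 (φ := phi K) (r := r6) (ε := 1) r6_lt (phi_tv' K) (hth (tauS a b)) (fun i j hij => by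
      rw [ch_th hp6 (r6_lt i j hij), tauS_char, unit_zpow ha (tau_tab.1 i j hij).1,
        unit_zpow hb (tau_tab.1 i j hij).2, one_mul]) A
    rw [h1]; group
  · have h1 := congrArg Subtype.val (comm_TT hp6 (⟨_, hth (tauS a b)⟩ : ↥(TT chevE6 K)) ⟨_, hth (sig K)⟩)
    change th hp6 (tauS a b) * s0 K = s0 K * th hp6 (tauS a b) at h1
    rw [h1]; group
  · rw [f0_uu, f0_uu, (act hp6 lt56.1 (hth _)).2, ch_th hp6 lt56.1, tauS_char, tau_tab.2.1.1, tau_tab.2.1.2, zpow_zero,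
      mul_one]
    have h1 : (a : K) ^ (-1 : ℤ) = (a : K) := by
      rw [zpow_neg_one, ← Units.val_inv_eq_inv_val]
      congr 1
      rw [inv_eq_iff_mul_eq_one, ← pow_two, ha]
    rw [h1]
  · rw [f5_vv, f5_vv, (act hp6 lt56.2.2.2 (hth _)).2, ch_th hp6 lt56.2.2.2, tauS_char, tau_tab.2.2.1, tau_tab.2.2.2,
      zpow_zero, one_mul, zpow_one]

end tor

/-! ### The class -/

section cls

variable {K : Type u} [Field K]

/-- the elements of the two classes -/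
noncomputable def cc (X : Matrix.SpecialLinearGroup (Fin 3) K) (t t' : SL(2, K)) : ↥(chevE6.group K) :=
  s0 K * Phi K ((X, t), t')

theorem cc_mul (X Y : Matrix.SpecialLinearGroup (Fin 3) K) (t t' r r' : SL(2, K)) :
    cc X t t' * cc Y r r' = Phi K ((X * Y, t * r), t' * r') := by
  unfold cc
  calc s0 K * Phi K ((X, t), t') * (s0 K * Phi K ((Y, r), r'))
      = s0 K * (Phi K ((X, t), t') * s0 K) * Phi K ((Y, r), r') := by group
    _ = s0 K * s0 K * (Phi K ((X, t), t') * Phi K ((Y, r), r')) := by rw [← s0_comm]; group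
    _ = _ := by rw [s0_sq, one_mul, ← map_mul]; rfl

theorem cc_inv (X : Matrix.SpecialLinearGroup (Fin 3) K) (t t' : SL(2, K)) :
    (cc X t t')⁻¹ = cc X⁻¹ t⁻¹ t'⁻¹ := by
  rw [inv_eq_iff_mul_eq_one, cc_mul, mul_inv_cancel, mul_inv_cancel, mul_inv_cancel]
  exact map_one (Phi K)

theorem cc_conj (X g : Matrix.SpecialLinearGroup (Fin 3) K) (t t' r r' : SL(2, K)) :
    IsConj (cc X t t') (cc (g * X * g⁻¹) (r * t * r⁻¹) (r' * t' * r'⁻¹)) := by
  rw [isConj_iff]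
  refine ⟨Phi K ((g, r), r'), ?_⟩
  unfold cc
  rw [← mul_assoc, ← s0_comm, mul_assoc, mul_assoc, ← mul_assoc (Phi K _), ← map_inv, ← map_mul, ← map_mul]
  rfl

theorem sq_of_card [Finite K] (hK : Nat.card K = 3) (a : Kˣ) : a ^ 2 = 1 := by
  have := Fintype.ofFinite K
  classical
  have h1 : Fintype.card Kˣ = 2 := by
    rw [Fintype.card_units, ← Nat.card_eq_fintype_card, hK]
  rw [← h1]
  exact pow_card_eq_one

theorem three_zero [Finite K] (hK : Nat.card K = 3) : (3 : K) = 0 := by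
  have := Fintype.ofFinite K
  have h1 := Nat.cast_card_eq_zero K
  rw [← Nat.card_eq_fintype_card, hK] at h1
  exact_mod_cast h1

/-- all elements with the same first component are conjugate -/
theorem cc_nf [Finite K] (hK : Nat.card K = 3) (X : Matrix.SpecialLinearGroup (Fin 3) K) {t t' : SL(2, K)}
    (ht : Tv t) (ht' : Tv t') : IsConj (cc X (uu 1) (vv (-1))) (cc X t t') := by
  obtain ⟨g, c, hc, rfl⟩ := ht
  obtain ⟨g', c', hc', rfl⟩ := ht'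
  obtain ⟨τ, h1, h2, h3, h4⟩ := exists_tau (K := K) (sq_of_card hK (Units.mk0 c hc)) (sq_of_card hK (Units.mk0 c' hc'))
  have e1 : IsConj (cc X (uu 1) (vv (-1))) (cc X (uu c) (vv (-c'))) := by
    rw [isConj_iff]
    refine ⟨τ, ?_⟩
    unfold cc
    rw [Phi_apply, Phi_apply]
    have h5 : f K 0 (uu c) = τ * f K 0 (uu 1) * τ⁻¹ := by rw [h3, mul_one, Units.val_mk0]
    have h6 : f K 5 (vv (-c')) = τ * f K 5 (vv (-1)) * τ⁻¹ := by
      rw [h4, Units.val_mk0, mul_neg, mul_one]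
    rw [h5, h6]
    calc τ * (s0 K * (phi K X * f K 0 (uu 1) * f K 5 (vv (-1)))) * τ⁻¹
        = (τ * s0 K * τ⁻¹) * ((τ * phi K X * τ⁻¹) * (τ * f K 0 (uu 1) * τ⁻¹) * (τ * f K 5 (vv (-1)) * τ⁻¹)) := by group
      _ = _ := by rw [h1, h2]
  refine e1.trans ?_
  have e2 := cc_conj X 1 (uu c) (vv (-c')) g (g' * (w1 K)⁻¹)
  have e3 : (g' * (w1 K)⁻¹) * vv (-c') * (g' * (w1 K)⁻¹)⁻¹ = g' * uu c' * g'⁻¹ := by
    rw [← w1_uu]; group
  have e4 : (1 : Matrix.SpecialLinearGroup (Fin 3) K) * X * 1⁻¹ = X := by group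
  rw [e3, e4] at e2
  exact e2

theorem wtab : (∀ i : Fin 6, Cfsg.Agent.H162.GaussExc.fr chevE6 w6 (chevE6.simple i) =
      chevE6.neg (chevE6.simple ((![5, 1, 4, 3, 2, 0] : Fin 6 → Fin 6) i))) ∧
    (∀ i : Fin 6, (![5, 1, 4, 3, 2, 0] : Fin 6 → Fin 6) ((![5, 1, 4, 3, 2, 0] : Fin 6 → Fin 6) i) = i) ∧
    (∀ a b : Fin 3, a ≠ b → Cfsg.Agent.H162.GaussExc.fr chevE6 w6 (r6 a b) = chevE6.neg (r6 a b)) ∧
    ∀ i : Fin 6, (chevE6.cartan 0 (chevE6.simple ((![5, 1, 4, 3, 2, 0] : Fin 6 → Fin 6) i)) +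
      chevE6.cartan 5 (chevE6.simple ((![5, 1, 4, 3, 2, 0] : Fin 6 → Fin 6) i))) =
      (chevE6.cartan 0 (chevE6.simple i) + chevE6.cartan 5 (chevE6.simple i)) := by decide +kernel

/-- **Strong reality.** -/
theorem cc_real [Finite K] {X : Matrix.SpecialLinearGroup (Fin 3) K} (hX : Irreducible X.1.charpoly) :
    ∃ y : ↥(chevE6.group K), y * y = 1 ∧ y * cc X (uu 1) (vv (-1)) * y⁻¹ = (cc X (uu 1) (vv (-1)))⁻¹ := by
  obtain ⟨p, hpc⟩ := CharP.exists K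
  have : Fact p.Prime := ⟨(CharP.char_is_prime_or_zero K p).resolve_right (CharP.char_ne_zero_of_finite K p)⟩
  have R := rgd (K := K) hp6 cs6 p
  have hw : ∀ i : Fin 6, rep cs6 hp6.isCartan (cs6.wordProd w6) (sr i) =
      -sr ((![5, 1, 4, 3, 2, 0] : Fin 6 → Fin 6) i) := by
    intro i
    rw [← vec_simple hp6 i, ← Cfsg.Agent.H162.GaussExc.fr_vec hp6 cs6 w6 (simple_lt hp6.inList (lt_rank hp6 i)),
      wtab.1 i, vec_neg hp6 (simple_lt hp6.inList (lt_rank hp6 _)), vec_simple hp6]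
  obtain ⟨z, Z⟩ := Cfsg.Agent.H335.Sr.exists_ZD hp6 cs6 (K := K) R.nsys (γ := ![5, 1, 4, 3, 2, 0]) wtab.2.1 hw
    Cfsg.Agent.H129.TorusChar.invC_E6 (by decide) (fun _ => 1) (fun _ => .inl rfl) (fun _ => rfl)
  have hs0 : s0 K ∈ TT chevE6 K := (thT hp6 (sig K)).2
  obtain ⟨S, h1, h2⟩ := Z.inv_block (n := 1) (r := r6) (s := fun _ _ => 1) (φ := phi K) r6_lt r6_neg
    (fun a b hab => by
      rw [← Cfsg.Agent.H162.GaussExc.fr_vec hp6 cs6 w6 (r6_lt a b hab), wtab.2.2.1 a b hab, vec_neg hp6 (r6_lt a b hab)])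
    (fun _ _ _ => one_mul 1) (fun a b hab c => by rw [phi_tv, one_mul]) wtab.2.1 hs0 (fun i => by
      have hch : ∀ j : Fin 6, ch hp6 (sr j) (s0 K) =
          (-1) ^ (chevE6.cartan 0 (chevE6.simple j) + chevE6.cartan 5 (chevE6.simple j)) := by
        intro j
        rw [← vec_simple hp6 j]
        unfold s0
        rw [ch_th hp6 (simple_lt hp6.inList (lt_rank hp6 j)), sig_char]
      rw [hch, hch, wtab.2.2.2 i])
    (fun A => by have := s0_comm ((A, 1), 1); rwa [Phi_A] at this) (X := X)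
    (fun δ _ => Cfsg.Agent.H335.Sr.exists_symm X.1 hX δ)
  have hz0 : z * f K 0 (uu 1) * z⁻¹ = f K 5 (vv 1) := by
    have h3 := Z.pos 0 1
    rw [← sl_uu hp6 0] at h3
    refine h3.trans ?_
    change xc hp6 (-sr 5) (((1 : ℤ) : K) * 1) = sl hp6 5 (vv 1)
    rw [sl_vv hp6 5, Int.cast_one, one_mul]
  have hz5 : z * f K 5 (vv (-1)) * z⁻¹ = f K 0 (uu (-1)) := by
    have h3 := Z.neg 5 (-1)
    rw [← sl_vv hp6 5] at h3
    refine h3.trans ?_
    change xc hp6 (sr 0) (((1 : ℤ) : K) * -1) = sl hp6 0 (uu (-1))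
    rw [sl_uu hp6 0, Int.cast_one, one_mul]
  have hv1 : (vv (1 : K))⁻¹ = vv (-1) := by
    rw [inv_eq_iff_mul_eq_one, ← vv_add, add_neg_cancel, vv_zero]
  have hv2 : (vv (-1 : K))⁻¹ = vv 1 := by rw [← hv1, inv_inv]
  -- the commuting part
  obtain ⟨h3, h4⟩ := Cfsg.Agent.H335.Sr.combine (z := z) (S := phi K S) (m := 1) (c := s0 K * phi K X)
    (v := f K 0 (uu 1) * f K 5 (vv (-1))) Z.sq h1 (by rw [mul_one]; exact Z.sq) (Commute.one_right _)
    (Commute.one_left _) ((comm0 K S _).mul_right (comm5 K S _))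
    (by
      have e1 : ∀ B C, f K 0 B * f K 5 C = Phi K ((1, B), C) := fun B C => by
        rw [Phi_apply, map_one, one_mul]
      rw [e1]
      refine Commute.mul_left (s0_comm _) ?_
      rw [← e1]
      exact (comm0 K X _).mul_right (comm5 K X _)) h2 (by
      rw [mul_one]
      calc z * (f K 0 (uu 1) * f K 5 (vv (-1))) * z⁻¹
          = (z * f K 0 (uu 1) * z⁻¹) * (z * f K 5 (vv (-1)) * z⁻¹) := by group
        _ = (f K 5 (vv (-1)))⁻¹ * (f K 0 (uu 1))⁻¹ := by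
          rw [hz0, hz5, ← map_inv, ← map_inv, hv2, uu_inv]
        _ = _ := by rw [mul_inv_rev])
  refine ⟨_, h3, ?_⟩
  have e : cc X (uu 1) (vv (-1)) = s0 K * phi K X * (f K 0 (uu 1) * f K 5 (vv (-1))) := by
    unfold cc
    rw [Phi_apply]
    group
  rw [e]
  exact h4

/-- elements with the same characteristic polynomial are conjugate -/
theorem cc_congr [Finite K] (hK : Nat.card K = 3) {X Y : Matrix.SpecialLinearGroup (Fin 3) K}
    (hX : Irreducible X.1.charpoly) (h : Y.1.charpoly = X.1.charpoly) {t t' r r' : SL(2, K)} (ht : Tv t) (ht' : Tv t')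
    (hr : Tv r) (hr' : Tv r') : IsConj (cc X t t') (cc Y r r') := by
  obtain ⟨g, rfl⟩ := Cfsg.Agent.H150.MF.exists_conj (c := X) (d := Y)
    (Cfsg.Agent.H150.MF.cls_of_irreducible hX) (Cfsg.Agent.H150.MF.cls_of_irreducible (by rw [h]; exact hX)) h.symm
  refine (cc_nf hK X ht ht').symm.trans (IsConj.trans ?_ (cc_nf hK _ hr hr'))
  have e := cc_conj X g (uu 1) (vv (-1)) 1 1
  rwa [one_mul, one_mul, inv_one, mul_one, mul_one] at e

theorem isConj_inv {Y : Type*} [Group Y] {a b : Y} (h : IsConj a b) : IsConj a⁻¹ b⁻¹ := by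
  rw [isConj_iff] at h ⊢
  obtain ⟨c, rfl⟩ := h
  exact ⟨c, by group⟩

theorem cc_two [Finite K] (hK : Nat.card K = 3) {X : Matrix.SpecialLinearGroup (Fin 3) K}
    (hX : Irreducible X.1.charpoly) {t t' : SL(2, K)} (ht : Tv t) (ht' : Tv t') :
    ∃ a b : ↥(chevE6.group K), a ^ 2 = 1 ∧ b ^ 2 = 1 ∧ cc X t t' = a * b := by
  obtain ⟨y, hy, e⟩ := cc_real hX
  obtain ⟨g, hg⟩ := isConj_iff.1 (cc_nf hK X ht ht')
  rw [← hg]
  exact Cfsg.Agent.H224.Ore.Row.two_conj g (Cfsg.Agent.H224.Ore.Row.two_of_inv hy e)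

/-- `c₂` is conjugate to `c₁⁻¹` -/
theorem cc_pair [Finite K] (hK : Nat.card K = 3) {X Y : Matrix.SpecialLinearGroup (Fin 3) K}
    (hX : Irreducible X.1.charpoly) (hY : Irreducible Y.1.charpoly)
    (h : Y.1.charpoly = X.1.charpoly ∨ Y.1.charpoly = (X⁻¹).1.charpoly) {t t' r r' : SL(2, K)} (ht : Tv t) (ht' : Tv t')
    (hr : Tv r) (hr' : Tv r') : IsConj (cc X t t')⁻¹ (cc Y r r') := by
  rcases h with h | h
  · obtain ⟨y, hy, e⟩ := cc_real hX
    have h1 : IsConj (cc X (uu 1) (vv (-1))) (cc X (uu 1) (vv (-1)))⁻¹ := isConj_iff.2 ⟨y, e⟩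
    have h2 := cc_nf hK X ht ht'
    exact (isConj_inv h2).symm.trans (h1.symm.trans (h2.trans (cc_congr hK hX h ht ht' hr hr')))
  · rw [cc_inv]
    exact cc_congr hK (h ▸ hY) h ht.inv ht'.inv hr hr'

/-- **The pairs.** -/
theorem pairs [Finite K] (hK : Nat.card K = 3) :
    ∀ v ∈ UNJ cs6 hp6.isCartan (XX chevE6 6 K) {k | k ∈ J6}, ∀ u ∈ UJ cs6 hp6.isCartan (XX chevE6 6 K) {k | k ∈ J6},
      ∃ c₁ c₂, v * u = c₁ * c₂ ∧ LP cs6 hp6.isCartan (TT chevE6 K) (XX chevE6 6 K) {k | k ∈ J6} c₁ c₂ ∧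
        (∃ a b : ↥(chevE6.group K), a ^ 2 = 1 ∧ b ^ 2 = 1 ∧ c₁ = a * b) ∧
        (∃ a b : ↥(chevE6.group K), a ^ 2 = 1 ∧ b ^ 2 = 1 ∧ c₂ = a * b) ∧ ∃ y, c₂ = y * c₁⁻¹ * y⁻¹ := by
  intro v hv u hu
  obtain ⟨L, hL, b, c, rfl⟩ := exists_lo hv
  obtain ⟨U, hU, b', c', rfl⟩ := exists_up hu
  have h3 := three_zero hK
  obtain ⟨X, Y, e, hX, hY, hXY⟩ := Cfsg.Agent.H374.Ore.Sl3.m3 (Or.inr hK) hL hU
  obtain ⟨t, r, e1, ht, hr⟩ := two_lu h3 b b'
  obtain ⟨t', r', e2, ht', hr'⟩ := two_lu h3 c c'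
  have hmem : ∀ X t t', cc (K := K) X t t' ∈ LJ cs6 hp6.isCartan (TT chevE6 K) (XX chevE6 6 K) {k | k ∈ J6} := by
    intro X t t'
    unfold cc
    rw [s0_Phi, ← map_mul]
    exact Phi_mem _
  refine ⟨cc X t t', cc Y r r', ?_, ⟨hmem _ _ _, hmem _ _ _, (nf hK hX (ht.pow h3) (ht'.pow h3)).2,
    (nf hK hY (hr.pow h3) (hr'.pow h3)).1⟩, cc_two hK hX ht ht', cc_two hK hY hr hr', ?_⟩
  · rw [cc_mul, ← map_mul, ← e, ← e1, ← e2]
    rfl
  · obtain ⟨y, hy⟩ := isConj_iff.1 (cc_pair hK hX hY hXY ht ht' hr hr')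
    exact ⟨y, hy.symm⟩

/-- **Commutators in `E₆(3)`.** -/
theorem ore_e6_three [Finite K] (hK : Nat.card K = 3) : AllC ↥(chevE6.group K) := by
  obtain ⟨p, hpc⟩ := CharP.exists K
  have : Fact p.Prime := ⟨(CharP.char_is_prime_or_zero K p).resolve_right (CharP.char_ne_zero_of_finite K p)⟩
  have := finite_W hp6 cs6
  intro g
  by_cases hg : g = 1
  · exact hg ▸ isC_one
  refine Cfsg.Agent.H928.Ore.Frame.comm (rgd (K := K) hp6 cs6 p) (G1_eq_top hp6 _) (Cfsg.Agent.H162.GaussExc.coord hp6)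
    (Cfsg.Agent.Nodes.ChevChart.irr_of Cfsg.Agent.Nodes.ChevChart.irr6) (J := {k | k ∈ J6}) (fun v hv u hu => ?_)
    (Cfsg.Agent.H224.Ore.Row.not_mem_core (by norm_num) (Cfsg.Agent.S1054.result chevE6 (by simp)).1 p hp6 hg)
  obtain ⟨c₁, c₂, e, hLP, -, -, hy⟩ := pairs hK v hv u hu
  exact ⟨c₁, c₂, e, hLP, hy⟩

/-- **Four elements of square one in `E₆(3)`.** -/
theorem inv_e6_three [Finite K] (hK : Nat.card K = 3) : Inv4 ↥(chevE6.group K) := by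
  obtain ⟨p, hpc⟩ := CharP.exists K
  have : Fact p.Prime := ⟨(CharP.char_is_prime_or_zero K p).resolve_right (CharP.char_ne_zero_of_finite K p)⟩
  have := finite_W hp6 cs6
  intro g
  by_cases hg : g = 1
  · exact ⟨1, 1, 1, 1, by simp, by simp, by simp, by simp, by rw [hg]; simp⟩
  obtain ⟨a, b, c, d, ha, hb, hc, hd, e⟩ := four (rgd (K := K) hp6 cs6 p) (G1_eq_top hp6 _) (Cfsg.Agent.H162.GaussExc.coord hp6)
    (Cfsg.Agent.Nodes.ChevChart.irr_of Cfsg.Agent.Nodes.ChevChart.irr6) (J := {k | k ∈ J6}) (fun v hv u hu => by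
      obtain ⟨c₁, c₂, e, hLP, h1, h2, -⟩ := pairs hK v hv u hu
      exact ⟨c₁, c₂, e, hLP, h1, h2⟩)
    (Cfsg.Agent.H224.Ore.Row.not_mem_core (by norm_num) (Cfsg.Agent.S1054.result chevE6 (by simp)).1 p hp6 hg)
  exact ⟨a, b, c, d, by rw [← pow_two, ha], by rw [← pow_two, hb], by rw [← pow_two, hc], by rw [← pow_two, hd], e⟩

end cls

end Cfsg.Agent.H150.E6T
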